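import Mathlib

/-!
# Scheme-level Néron mapping property (for S13750)
-/

universe u
open CategoryTheory CategoryTheory.Limits AlgebraicGeometry

namespace Groth.Agent.Lib.Helper14.NeronStalk

/-- Scheme-level Néron mapping property of `n : N ⟶ S` for the test object `y : Y ⟶ S`
whose restriction (over the open `U` of `S`) is `q : Q ⟶ Y`: restriction along `q` is a bijection
from `S`-morphisms `Y ⟶ N` onto `S`-morphisms `Q ⟶ N`. -/
def NMPAt {S N Y Q : Scheme.{u}} (n : N ⟶ S) (y : Y ⟶ S) (q : Q ⟶ Y) : Prop :=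
  (∀ a b : Y ⟶ N, a ≫ n = y → b ≫ n = y → q ≫ a = q ≫ b → a = b) ∧
  (∀ h : Q ⟶ N, h ≫ n = q ≫ y → ∃ a : Y ⟶ N, a ≫ n = y ∧ q ≫ a = h)

end Groth.Agent.Lib.Helper14.NeronStalk
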