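import Mathlib
import Groth.Agent.Lib.Helper14.NeronStalk.Defs
import Groth.Agent.Lib.Helper12.StalkLim
import Groth.Agent.Lib.Helper14.LimPullback

/-!
# S13750: injectivity part at a smooth model
-/

universe u
set_option linter.style.haveILetI false
set_option backward.isDefEq.respectTransparency false
open CategoryTheory CategoryTheory.Limits AlgebraicGeometry
open Groth.Agent.Lib.Helper12

namespace Groth.Agent.Lib.Helper14.NeronStalk

set_option maxHeartbeats 400000 in
theorem model_inj {S : Scheme.{u}} [IsLocallyNoetherian S] (U : S.Opens) {N : Scheme.{u}}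
    (n : N ⟶ S) [LocallyOfFinitePresentation n] [IsSeparated n] [QuasiCompact n]
    (hN : ∀ {Y Q : Scheme.{u}} (y : Y ⟶ S) [Smooth y] (q : Q ⟶ Y) (q' : Q ⟶ U.toScheme),
      IsPullback q q' y U.ι → NMPAt n y q)
    (s : S) {P Q : Scheme.{u}} (p : P ⟶ Spec (S.presheaf.stalk s))
    (q : Q ⟶ P) (q' : Q ⟶ U.toScheme) (hq : IsPullback q q' (p ≫ S.fromSpecStalk s) U.ι)
    (W : StalkLim.AffNhd S s) {P₁ : Scheme.{u}} (p₁ : P₁ ⟶ (StalkLim.diag S s).obj W)
    [Smooth p₁] [QuasiCompact p₁] [QuasiSeparated p₁] (g : P ⟶ P₁)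
    (hP : IsPullback g p p₁ ((StalkLim.cone S s).π.app W))
    (a b : P ⟶ N) (ha : a ≫ n = p ≫ S.fromSpecStalk s) (hb : b ≫ n = p ≫ S.fromSpecStalk s)
    (hab : q ≫ a = q ≫ b) : a = b := by
  have hc := StalkLim.isLimitCone S s
  have hcι : ∀ W' : StalkLim.AffNhd S s,
      (StalkLim.cone S s).π.app W' ≫ W'.U.ι = S.fromSpecStalk s :=
    fun W' => Scheme.Opens.fromSpecStalkOfMem_ι _ _ _
  have hDι : ∀ {W' W'' : StalkLim.AffNhd S s} (φ : W' ⟶ W''),
      (StalkLim.diag S s).map φ ≫ W''.U.ι = W'.U.ι :=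
    fun φ => Scheme.homOfLE_ι S (StalkLim.AffNhd.le_iff.mp φ.le)
  haveI : ∀ {j k : StalkLim.AffNhd S s} (f : j ⟶ k), IsAffineHom ((StalkLim.diag S s).map f) :=
    fun f => inferInstance
  -- the model restricted over `U`
  let w : P₁ ⟶ S := p₁ ≫ W.U.ι
  let xi : pullback w U.ι ⟶ (StalkLim.diag S s).obj W := pullback.fst w U.ι ≫ p₁
  haveI : IsLocallyNoetherian ((StalkLim.diag S s).obj W) := by
    show IsLocallyNoetherian W.U.toScheme
    infer_instance
  haveI : IsAffine W.U.toScheme := W.isAffineOpen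
  haveI : IsLocallyNoetherian P₁ := LocallyOfFiniteType.isLocallyNoetherian p₁
  haveI : CompactSpace P₁ := QuasiCompact.compactSpace_of_compactSpace p₁
  haveI : CompactSpace (pullback w U.ι : Scheme.{u}) :=
    QuasiCompact.compactSpace_of_compactSpace (pullback.fst w U.ι)
  haveI : QuasiSeparatedSpace P₁ := inferInstance
  -- the maps from `Q`
  have egw : g ≫ w = p ≫ S.fromSpecStalk s := by
    dsimp only [w]; rw [← Category.assoc, hP.w, Category.assoc, hcι W]
  have hqX : (q ≫ g) ≫ w = q' ≫ U.ι := by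
    rw [Category.assoc, egw, hq.w]
  let qX : Q ⟶ pullback w U.ι := pullback.lift (q ≫ g) q' hqX
  let pX : Q ⟶ (StalkLim.cone S s).pt := q ≫ p
  have hX : IsPullback qX pX xi ((StalkLim.cone S s).π.app W) := by
    have hright : IsPullback (pullback.snd w U.ι) (pullback.fst w U.ι) U.ι w :=
      (IsPullback.of_hasPullback w U.ι).flip
    have houter : IsPullback (qX ≫ pullback.snd w U.ι) q U.ι (g ≫ w) := by
      have e1 : qX ≫ pullback.snd w U.ι = q' := pullback.lift_snd _ _ _
      rw [e1, egw]; exact hq.flip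
    have htop : IsPullback qX q (pullback.fst w U.ι) g :=
      IsPullback.of_right houter (pullback.lift_fst _ _ _) hright
    exact htop.paste_vert hP
  -- the two diagrams
  let DP := Groth.Agent.Lib.Helper14.pullbackDiagram (StalkLim.diag S s) W p₁
  let DQ := Groth.Agent.Lib.Helper14.pullbackDiagram (StalkLim.diag S s) W xi
  let tP : DP ⟶ (Functor.const (Over W)).obj S :=
    { app := fun j => pullback.fst p₁ ((StalkLim.diag S s).map j.hom) ≫ w
      naturality := fun j k f => by
        simp only [Functor.const_obj_obj, Functor.const_obj_map, Category.comp_id]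
        exact Groth.Agent.Lib.Helper14.pullbackDiagram_map_fst_assoc (StalkLim.diag S s) W p₁ f w }
  let tQ : DQ ⟶ (Functor.const (Over W)).obj S :=
    { app := fun j => pullback.fst xi ((StalkLim.diag S s).map j.hom) ≫ pullback.fst w U.ι ≫ w
      naturality := fun j k f => by
        simp only [Functor.const_obj_obj, Functor.const_obj_map, Category.comp_id]
        exact Groth.Agent.Lib.Helper14.pullbackDiagram_map_fst_assoc (StalkLim.diag S s) W xi f _ }
  have hlimP := Groth.Agent.Lib.Helper14.isLimitPullbackDiagramCone (StalkLim.diag S s) W p₁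
    (StalkLim.cone S s) g p hP hc
  have hlimQ := Groth.Agent.Lib.Helper14.isLimitPullbackDiagramCone (StalkLim.diag S s) W xi
    (StalkLim.cone S s) qX pX hX hc
  have hπP_fst : ∀ j : Over W,
      (Groth.Agent.Lib.Helper14.pullbackDiagramCone (StalkLim.diag S s) W p₁
        (StalkLim.cone S s) g p hP).π.app j ≫
        pullback.fst p₁ ((StalkLim.diag S s).map j.hom) = g :=
    fun j => Groth.Agent.Lib.Helper14.pullbackDiagramCone_π_fst (StalkLim.diag S s) W p₁ (StalkLim.cone S s) g p hP j
  have hπQ_fst : ∀ j : Over W,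
      (Groth.Agent.Lib.Helper14.pullbackDiagramCone (StalkLim.diag S s) W xi
        (StalkLim.cone S s) qX pX hX).π.app j ≫
        pullback.fst xi ((StalkLim.diag S s).map j.hom) = qX :=
    fun j => Groth.Agent.Lib.Helper14.pullbackDiagramCone_π_fst (StalkLim.diag S s) W xi (StalkLim.cone S s) qX pX hX j
  have hπP_snd : ∀ j : Over W,
      (Groth.Agent.Lib.Helper14.pullbackDiagramCone (StalkLim.diag S s) W p₁
        (StalkLim.cone S s) g p hP).π.app j ≫
        pullback.snd p₁ ((StalkLim.diag S s).map j.hom) = p ≫ (StalkLim.cone S s).π.app j.left :=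
    fun j => Groth.Agent.Lib.Helper14.pullbackDiagramCone_π_snd (StalkLim.diag S s) W p₁ (StalkLim.cone S s) g p hP j
  have hπQ_snd : ∀ j : Over W,
      (Groth.Agent.Lib.Helper14.pullbackDiagramCone (StalkLim.diag S s) W xi
        (StalkLim.cone S s) qX pX hX).π.app j ≫
        pullback.snd xi ((StalkLim.diag S s).map j.hom) = pX ≫ (StalkLim.cone S s).π.app j.left :=
    fun j => Groth.Agent.Lib.Helper14.pullbackDiagramCone_π_snd (StalkLim.diag S s) W xi (StalkLim.cone S s) qX pX hX j
  obtain ⟨k₁, a₁, ha₁, ha₁'⟩ := Scheme.exists_π_app_comp_eq_of_locallyOfFinitePresentation DP tP n _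
    hlimP a (by
      ext j : 2
      simp only [NatTrans.comp_app, Functor.const_obj_obj, Functor.const_map_app, tP]
      rw [reassoc_of% (hπP_fst j), egw, ha])
  obtain ⟨k₂, b₁, hb₁, hb₁'⟩ := Scheme.exists_π_app_comp_eq_of_locallyOfFinitePresentation DP tP n _
    hlimP b (by
      ext j : 2
      simp only [NatTrans.comp_app, Functor.const_obj_obj, Functor.const_map_app, tP]
      rw [reassoc_of% (hπP_fst j), egw, hb])
  -- comparison maps between the two diagrams
  let r : ∀ k : Over W, DQ.obj k ⟶ DP.obj k := fun k =>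
    pullback.map xi ((StalkLim.diag S s).map k.hom) p₁ ((StalkLim.diag S s).map k.hom)
      (pullback.fst w U.ι) (𝟙 _) (𝟙 _) (by simp [xi]) (by simp)
  have hr_fst : ∀ k : Over W, r k ≫ pullback.fst p₁ ((StalkLim.diag S s).map k.hom) =
      pullback.fst xi ((StalkLim.diag S s).map k.hom) ≫ pullback.fst w U.ι := by
    intro k; simp [r]
  have hr_snd : ∀ k : Over W, r k ≫ pullback.snd p₁ ((StalkLim.diag S s).map k.hom) =
      pullback.snd xi ((StalkLim.diag S s).map k.hom) := by
    intro k; simp [r]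
  have hr_nat : ∀ {j k : Over W} (f : j ⟶ k), DQ.map f ≫ r k = r j ≫ DP.map f := by
    intro j k f
    apply pullback.hom_ext
    · rw [Category.assoc, hr_fst k, Category.assoc,
        Groth.Agent.Lib.Helper14.pullbackDiagram_map_fst (StalkLim.diag S s) W p₁ f, hr_fst j,
        Groth.Agent.Lib.Helper14.pullbackDiagram_map_fst_assoc (StalkLim.diag S s) W xi f]
    · rw [Category.assoc, hr_snd k, Category.assoc,
        Groth.Agent.Lib.Helper14.pullbackDiagram_map_snd (StalkLim.diag S s) W p₁ f,
        ← Category.assoc, hr_snd j,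
        Groth.Agent.Lib.Helper14.pullbackDiagram_map_snd (StalkLim.diag S s) W xi f]
  have hr_cone : ∀ k : Over W,
      (Groth.Agent.Lib.Helper14.pullbackDiagramCone (StalkLim.diag S s) W xi
        (StalkLim.cone S s) qX pX hX).π.app k ≫ r k =
      q ≫ (Groth.Agent.Lib.Helper14.pullbackDiagramCone (StalkLim.diag S s) W p₁
        (StalkLim.cone S s) g p hP).π.app k := by
    intro k
    apply pullback.hom_ext
    · rw [Category.assoc, hr_fst k, reassoc_of% (hπQ_fst k), Category.assoc, hπP_fst k]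
      exact pullback.lift_fst _ _ _
    · simp only [Category.assoc]
      rw [hr_snd k, hπQ_snd k, hπP_snd k]
      exact Category.assoc _ _ _
  have htQ : ∀ k : Over W, tQ.app k = r k ≫ tP.app k := by
    intro k
    show pullback.fst xi ((StalkLim.diag S s).map k.hom) ≫ pullback.fst w U.ι ≫ w =
      r k ≫ pullback.fst p₁ ((StalkLim.diag S s).map k.hom) ≫ w
    rw [reassoc_of% (hr_fst k)]
  obtain ⟨k₃, f₁, f₂, e⟩ := Scheme.exists_hom_hom_comp_eq_comp_of_locallyOfFiniteType DQ tQ n _
    hlimQ (r k₁ ≫ a₁) (by rw [Category.assoc, ha₁', htQ k₁]) (r k₂ ≫ b₁)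
    (by rw [Category.assoc, hb₁', htQ k₂])
    (by rw [reassoc_of% (hr_cone k₁), reassoc_of% (hr_cone k₂), ha₁, hb₁, hab])
  -- apply the mapping property at the stage `k₃`
  let y : pullback p₁ ((StalkLim.diag S s).map k₃.hom) ⟶ S :=
    pullback.snd p₁ ((StalkLim.diag S s).map k₃.hom) ≫ k₃.left.U.ι
  haveI : Smooth y := by dsimp only [y]; infer_instance
  have ey : y = pullback.fst p₁ ((StalkLim.diag S s).map k₃.hom) ≫ w := by
    dsimp only [y, w]
    rw [pullback.condition_assoc, hDι k₃.hom]
  have hr : IsPullback (r k₃)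
      (pullback.fst xi ((StalkLim.diag S s).map k₃.hom) ≫ pullback.snd w U.ι) y U.ι := by
    have hL : IsPullback (r k₃) (pullback.fst xi ((StalkLim.diag S s).map k₃.hom))
        (pullback.fst p₁ ((StalkLim.diag S s).map k₃.hom)) (pullback.fst w U.ι) := by
      refine IsPullback.of_right ?_ (hr_fst k₃)
        (IsPullback.of_hasPullback p₁ ((StalkLim.diag S s).map k₃.hom)).flip
      rw [hr_snd k₃]
      exact (IsPullback.of_hasPullback xi ((StalkLim.diag S s).map k₃.hom)).flip
    rw [ey]
    exact hL.paste_vert (IsPullback.of_hasPullback w U.ι)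
  have htPn : ∀ {j k : Over W} (f : j ⟶ k), DP.map f ≫ tP.app k = tP.app j := by
    intro j k f
    have := tP.naturality f
    simpa only [Functor.const_obj_obj, Functor.const_obj_map, Category.comp_id] using this
  have hA : (DP.map f₁ ≫ a₁) ≫ n = y := by
    rw [Category.assoc, ha₁', htPn f₁, ey]
  have hB : (DP.map f₂ ≫ b₁) ≫ n = y := by
    rw [Category.assoc, hb₁', htPn f₂, ey]
  have hAB : r k₃ ≫ DP.map f₁ ≫ a₁ = r k₃ ≫ DP.map f₂ ≫ b₁ := by
    rw [← reassoc_of% (hr_nat f₁), ← reassoc_of% (hr_nat f₂)]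
    exact e
  have hfin := (hN y (r k₃) _ hr).1 _ _ hA hB hAB
  have hwP : ∀ {j k : Over W} (f : j ⟶ k),
      (Groth.Agent.Lib.Helper14.pullbackDiagramCone (StalkLim.diag S s) W p₁
        (StalkLim.cone S s) g p hP).π.app j ≫ DP.map f =
      (Groth.Agent.Lib.Helper14.pullbackDiagramCone (StalkLim.diag S s) W p₁
        (StalkLim.cone S s) g p hP).π.app k := fun f =>
    (Groth.Agent.Lib.Helper14.pullbackDiagramCone (StalkLim.diag S s) W p₁
        (StalkLim.cone S s) g p hP).w f
  rw [← ha₁, ← hb₁, ← hwP f₁, ← hwP f₂, Category.assoc, Category.assoc, hfin]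

end Groth.Agent.Lib.Helper14.NeronStalk
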