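import Mathlib
import Groth.Agent.Lib.Helper14.NeronStalk.Defs
import Groth.Agent.Lib.Helper12.StalkLim
import Groth.Agent.S9218

/-!
# S13750: surjectivity part at a smooth model (descent of the morphism to a finite stage)
-/

universe u
set_option linter.style.haveILetI false
set_option backward.isDefEq.respectTransparency false
open CategoryTheory CategoryTheory.Limits AlgebraicGeometry
open Groth.Agent.Lib.Helper12

namespace Groth.Agent.Lib.Helper14.NeronStalk

theorem model_surj {S : Scheme.{u}} [IsLocallyNoetherian S] (U : S.Opens) {N : Scheme.{u}}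
    (n : N ⟶ S) [LocallyOfFinitePresentation n] [IsSeparated n] [QuasiCompact n]
    (hN : ∀ {Y Q : Scheme.{u}} (y : Y ⟶ S) [Smooth y] (q : Q ⟶ Y) (q' : Q ⟶ U.toScheme),
      IsPullback q q' y U.ι → NMPAt n y q)
    (s : S) {P Q : Scheme.{u}} (p : P ⟶ Spec (S.presheaf.stalk s))
    (q : Q ⟶ P) (q' : Q ⟶ U.toScheme) (hq : IsPullback q q' (p ≫ S.fromSpecStalk s) U.ι)
    (W : StalkLim.AffNhd S s) {P₁ : Scheme.{u}} (p₁ : P₁ ⟶ (StalkLim.diag S s).obj W)
    [Smooth p₁] [QuasiCompact p₁] [QuasiSeparated p₁] (g : P ⟶ P₁)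
    (hP : IsPullback g p p₁ ((StalkLim.cone S s).π.app W))
    (h : Q ⟶ N) (hh : h ≫ n = q ≫ p ≫ S.fromSpecStalk s) :
    ∃ a : P ⟶ N, a ≫ n = p ≫ S.fromSpecStalk s ∧ q ≫ a = h := by
  have hc := StalkLim.isLimitCone S s
  have hcι : ∀ W' : StalkLim.AffNhd S s,
      (StalkLim.cone S s).π.app W' ≫ W'.U.ι = S.fromSpecStalk s :=
    fun W' => Scheme.Opens.fromSpecStalkOfMem_ι _ _ _
  have hDι : ∀ {W' W'' : StalkLim.AffNhd S s} (φ : W' ⟶ W''),
      (StalkLim.diag S s).map φ ≫ W''.U.ι = W'.U.ι := fun φ => Scheme.homOfLE_ι S (StalkLim.AffNhd.le_iff.mp φ.le)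
  -- the model restricted over `U`
  let w : P₁ ⟶ S := p₁ ≫ W.U.ι
  let xi : pullback w U.ι ⟶ (StalkLim.diag S s).obj W := pullback.fst w U.ι ≫ p₁
  let yi : pullback n W.U.ι ⟶ (StalkLim.diag S s).obj W := pullback.snd n W.U.ι
  haveI : IsLocallyNoetherian ((StalkLim.diag S s).obj W) := by
    show IsLocallyNoetherian W.U.toScheme
    infer_instance
  haveI : IsAffine W.U.toScheme := W.isAffineOpen
  haveI : IsLocallyNoetherian P₁ := LocallyOfFiniteType.isLocallyNoetherian p₁
  haveI : CompactSpace P₁ := QuasiCompact.compactSpace_of_compactSpace p₁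
  haveI : CompactSpace (pullback w U.ι : Scheme.{u}) :=
    QuasiCompact.compactSpace_of_compactSpace (pullback.fst w U.ι)
  haveI : QuasiSeparatedSpace (pullback w U.ι : Scheme.{u}) := by
    haveI : IsLocallyNoetherian (pullback w U.ι : Scheme.{u}) :=
      isLocallyNoetherian_of_isOpenImmersion (pullback.fst w U.ι)
    infer_instance
  haveI : LocallyOfFinitePresentation xi := by
    dsimp only [xi]; infer_instance
  haveI : CompactSpace (pullback n W.U.ι : Scheme.{u}) :=
    QuasiCompact.compactSpace_of_compactSpace (pullback.snd n W.U.ι)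
  haveI : QuasiSeparatedSpace (pullback n W.U.ι : Scheme.{u}) :=
    quasiSeparatedSpace_of_quasiSeparated (pullback.snd n W.U.ι)
  haveI : LocallyOfFinitePresentation yi := by
    dsimp only [yi]; infer_instance
  -- the maps from `Q`
  have egw : g ≫ w = p ≫ S.fromSpecStalk s := by
    dsimp only [w]; rw [← Category.assoc, hP.w, Category.assoc, hcι W]
  have hqX : (q ≫ g) ≫ w = q' ≫ U.ι := by
    rw [Category.assoc, egw, hq.w]
  let qX : Q ⟶ pullback w U.ι := pullback.lift (q ≫ g) q' hqX
  let pX : Q ⟶ (StalkLim.cone S s).pt := q ≫ p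
  have hX : IsPullback qX pX xi ((StalkLim.cone S s).π.app W) := by
    have hright : IsPullback (pullback.snd w U.ι) (pullback.fst w U.ι) U.ι w :=
      (IsPullback.of_hasPullback w U.ι).flip
    have houter : IsPullback (qX ≫ pullback.snd w U.ι) q U.ι (g ≫ w) := by
      have e1 : qX ≫ pullback.snd w U.ι = q' := pullback.lift_snd _ _ _
      rw [e1, egw]; exact hq.flip
    have htop : IsPullback qX q (pullback.fst w U.ι) g :=
      IsPullback.of_right houter (pullback.lift_fst _ _ _) hright
    exact htop.paste_vert hP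
  have hf1 : h ≫ n = (q ≫ p ≫ (StalkLim.cone S s).π.app W) ≫ W.U.ι := by
    rw [hh, Category.assoc, Category.assoc, hcι W]
  let f : Q ⟶ pullback yi ((StalkLim.cone S s).π.app W) :=
    pullback.lift (pullback.lift h (q ≫ p ≫ (StalkLim.cone S s).π.app W) hf1) (q ≫ p)
      (by dsimp only [yi]; rw [pullback.lift_snd, Category.assoc])
  have hf : f ≫ pullback.snd yi ((StalkLim.cone S s).π.app W) = pX := pullback.lift_snd _ _ _
  obtain ⟨W', φ, fj, sX, sY, e1, e2, e3, e4, e5, e6⟩ :=
    Groth.Agent.S9218.result (StalkLim.diag S s) (StalkLim.cone S s) hc W xi yi qX pX hX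
      (pullback.fst yi _) (pullback.snd yi _) (IsPullback.of_hasPullback _ _) f hf
  -- the smooth model over `W'`
  let y : pullback p₁ ((StalkLim.diag S s).map φ) ⟶ S :=
    pullback.snd p₁ ((StalkLim.diag S s).map φ) ≫ W'.U.ι
  haveI : Smooth y := by dsimp only [y]; infer_instance
  let r : pullback xi ((StalkLim.diag S s).map φ) ⟶ pullback p₁ ((StalkLim.diag S s).map φ) :=
    pullback.map xi ((StalkLim.diag S s).map φ) p₁ ((StalkLim.diag S s).map φ)
      (pullback.fst w U.ι) (𝟙 _) (𝟙 _) (by simp [xi]) (by simp)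
  have hr_fst : r ≫ pullback.fst p₁ ((StalkLim.diag S s).map φ) =
      pullback.fst xi ((StalkLim.diag S s).map φ) ≫ pullback.fst w U.ι := by
    simp [r]
  have hr_snd : r ≫ pullback.snd p₁ ((StalkLim.diag S s).map φ) =
      pullback.snd xi ((StalkLim.diag S s).map φ) := by
    simp [r]
  have ey : y = pullback.fst p₁ ((StalkLim.diag S s).map φ) ≫ w := by
    dsimp only [y, w]
    rw [pullback.condition_assoc, hDι φ]
  have hr : IsPullback r (pullback.fst xi ((StalkLim.diag S s).map φ) ≫ pullback.snd w U.ι) y U.ι := by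
    have hL : IsPullback r (pullback.fst xi ((StalkLim.diag S s).map φ))
        (pullback.fst p₁ ((StalkLim.diag S s).map φ)) (pullback.fst w U.ι) := by
      refine IsPullback.of_right ?_ hr_fst (IsPullback.of_hasPullback p₁ ((StalkLim.diag S s).map φ)).flip
      rw [hr_snd]
      exact (IsPullback.of_hasPullback xi ((StalkLim.diag S s).map φ)).flip
    rw [ey]
    exact hL.paste_vert (IsPullback.of_hasPullback w U.ι)
  let h₁ : pullback xi ((StalkLim.diag S s).map φ) ⟶ N :=
    fj ≫ pullback.fst yi ((StalkLim.diag S s).map φ) ≫ pullback.fst n W.U.ι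
  have hh₁ : h₁ ≫ n = r ≫ y := by
    dsimp only [h₁, y]
    rw [← Category.assoc r, hr_snd]
    simp only [Category.assoc]
    rw [pullback.condition]
    show fj ≫ pullback.fst yi ((StalkLim.diag S s).map φ) ≫ yi ≫ W.U.ι = _
    rw [pullback.condition_assoc, hDι φ, ← Category.assoc, e1]
  obtain ⟨a₁, ha₁, hra₁⟩ := (hN y r _ hr).2 h₁ hh₁
  let gP : P ⟶ pullback p₁ ((StalkLim.diag S s).map φ) :=
    pullback.lift g (p ≫ (StalkLim.cone S s).π.app W')
      (by rw [hP.w, Category.assoc, (StalkLim.cone S s).w φ])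
  refine ⟨gP ≫ a₁, ?_, ?_⟩
  · rw [Category.assoc, ha₁]
    dsimp only [y, gP]
    rw [pullback.lift_snd_assoc, Category.assoc, hcι W']
  · have e : q ≫ gP = sX ≫ r := by
      apply pullback.hom_ext
      · rw [Category.assoc, Category.assoc, hr_fst, ← Category.assoc sX, e2]
        dsimp only [gP, qX]
        rw [pullback.lift_fst, pullback.lift_fst]
      · rw [Category.assoc, Category.assoc, hr_snd, e3]
        dsimp only [gP, pX]
        rw [pullback.lift_snd, Category.assoc]
    rw [← Category.assoc, e, Category.assoc, hra₁]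
    dsimp only [h₁]
    rw [← Category.assoc sX, e6, Category.assoc, ← Category.assoc sY, e4]
    dsimp only [f]
    rw [pullback.lift_fst_assoc, pullback.lift_fst]

end Groth.Agent.Lib.Helper14.NeronStalk
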