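import Mathlib
import Groth.Agent.Lib.Helper14.NeronStalk.Defs
import Groth.Agent.Lib.Helper14.NeronStalk.Surj
import Groth.Agent.Lib.Helper12.StalkLim
import Groth.Agent.Lib.Helper6.NStalkT1
import Groth.Agent.Lib.Helper13.NStalkT2
import Groth.Agent.Lib.Helper17.NStalkT3
import Groth.Agent.Lib.Helper9.NStalkT4a
import Groth.Agent.Lib.Helper14.NeronStalk.Inj

/-!
# S13750: the Néron mapping property localises to `Spec 𝒪_{S,s}`
-/

universe u
set_option linter.style.haveILetI false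
set_option backward.isDefEq.respectTransparency false
open CategoryTheory CategoryTheory.Limits AlgebraicGeometry
open Groth.Agent.Lib.Helper12

namespace Groth.Agent.Lib.Helper14.NeronStalk

/-- affine/qcqs core -/
theorem nmpAt_qcqs {S : Scheme.{u}} [IsLocallyNoetherian S] (U : S.Opens) {N : Scheme.{u}}
    (n : N ⟶ S) [LocallyOfFinitePresentation n] [IsSeparated n] [QuasiCompact n]
    (hN : ∀ {Y Q : Scheme.{u}} (y : Y ⟶ S) [Smooth y] (q : Q ⟶ Y) (q' : Q ⟶ U.toScheme),
      IsPullback q q' y U.ι → NMPAt n y q)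
    (s : S) {P Q : Scheme.{u}} [CompactSpace P] [QuasiSeparatedSpace P]
    (p : P ⟶ Spec (S.presheaf.stalk s)) [Smooth p]
    (q : Q ⟶ P) (q' : Q ⟶ U.toScheme) (hq : IsPullback q q' (p ≫ S.fromSpecStalk s) U.ι) :
    NMPAt n (p ≫ S.fromSpecStalk s) q := by
  obtain ⟨W, P₁, p₁, g, h1, h2, h3, hP⟩ := Groth.Agent.Lib.Helper9.NStalkT4a.exists_smooth_model s p
  exact ⟨fun a b ha hb hab => model_inj U n hN s p q q' hq W p₁ g hP a b ha hb hab,
    fun h hh => model_surj U n hN s p q q' hq W p₁ g hP h (by simpa using hh)⟩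

theorem main {S : Scheme.{u}} [IsLocallyNoetherian S] (U : S.Opens)
    (N : Over S) [Smooth N.hom] [IsSeparated N.hom] [QuasiCompact N.hom]
    (hN : ∀ Y : Over S, Smooth Y.hom →
      Function.Bijective (fun f : Y ⟶ N => (Over.pullback U.ι).map f))
    (s : S) (Y' : Over (Spec (S.presheaf.stalk s))) [Smooth Y'.hom] :
    Function.Bijective (fun f : Y' ⟶ (Over.pullback (S.fromSpecStalk s)).obj N =>
      (Over.pullback ((S.fromSpecStalk s) ⁻¹ᵁ U).ι).map f) := by
  apply Groth.Agent.Lib.Helper6.NStalkT1.bijective_of_nmpAt (S.fromSpecStalk s)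
    ((S.fromSpecStalk s) ⁻¹ᵁ U) N Y'
  have hN' : ∀ {Y Q : Scheme.{u}} (y : Y ⟶ S) [Smooth y] (q : Q ⟶ Y) (q' : Q ⟶ U.toScheme),
      IsPullback q q' y U.ι → NMPAt N.hom y q :=
    fun y _ q q' hq => Groth.Agent.Lib.Helper13.NStalkT2.nmpAt_of_bijective U N hN y q q' hq
  apply Groth.Agent.Lib.Helper17.NStalkT3.nmpAt_of_affine_opens
  intro W hW
  haveI : IsAffine W.toScheme := hW
  have h1 := (IsPullback.of_hasPullback
    (pullback.fst Y'.hom ((S.fromSpecStalk s) ⁻¹ᵁ U).ι) W.ι).flip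
  have h2 := IsPullback.of_hasPullback Y'.hom ((S.fromSpecStalk s) ⁻¹ᵁ U).ι
  have h3 := (isPullback_morphismRestrict (S.fromSpecStalk s) U).flip
  have h12 := h1.paste_vert h2
  have h123 := h12.paste_vert h3
  have := nmpAt_qcqs U N.hom hN' s (W.ι ≫ Y'.hom) _ _ (by simpa using h123)
  simpa using this

end Groth.Agent.Lib.Helper14.NeronStalk
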